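import Mathlib
import Cfsg.Agent.LinearOrders.Basic

/-!
# Semisimple isometries: primitive idempotents and the adjoint involution

For a semisimple matrix `A` with `A * σ A = 1` (`σ` a semilinear anti-automorphism of order two)
`adjoint_trichotomy`: there is a non-trivial self-adjoint idempotent polynomial in `A`, or the
minimal polynomial is irreducible, or a primitive idempotent `e` satisfies `σ e = 1 - e`.
-/

set_option autoImplicit false

open Polynomial Matrix

namespace CfsgLib.SympOrders

variable {F : Type*} [Field F] [Fintype F]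

section Prim

variable {ι : Type*} [Fintype ι] [DecidableEq ι]

/-- A primitive idempotent polynomial of a semisimple matrix. -/
theorem exists_primitive [Nonempty ι] {p : ℕ} [Fact p.Prime] [CharP F p] (A : Matrix ι ι F) {E : ℕ}
    (hE : ¬ p ∣ E) (hA : A ^ E = 1) :
    ∃ f P : F[X], f.Monic ∧ Irreducible f ∧ f ∣ minpoly F A ∧ f ∣ X ^ E - 1 ∧
      IsIdempotentElem (aeval A P) ∧ aeval A P ≠ 0 ∧
      aeval A f * aeval A P = 0 ∧ (aeval A P = 1 → aeval A f = 0) ∧
      ∀ R : F[X], IsIdempotentElem (aeval A R) →
        aeval A R * aeval A P = 0 ∨ aeval A R * aeval A P = aeval A P := by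
  have hint := Matrix.isIntegral (R := F) A
  obtain ⟨f, hfm, hfi, hfd⟩ := Polynomial.exists_monic_irreducible_factor (minpoly F A)
    (minpoly.not_isUnit F A)
  obtain ⟨h, hh⟩ := hfd
  have hsq := CfsgLib.LinearOrders.squarefree_minpoly A hE hA
  rw [hh] at hsq
  obtain ⟨a, b, hab⟩ : IsCoprime f h := (squarefree_mul_iff.mp hsq).1.isCoprime
  have hfe : aeval A f * aeval A (b * h) = 0 := by
    rw [← map_mul, show f * (b * h) = f * h * b by ring, ← hh, map_mul, minpoly.aeval, zero_mul]
  have hidem : IsIdempotentElem (aeval A (b * h)) := by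
    have h0 : aeval A (b * h - b * h * (b * h)) = 0 := by
      rw [show b * h - b * h * (b * h) = f * h * (a * b) by linear_combination (b * h) * hab.symm,
        ← hh, map_mul, minpoly.aeval, zero_mul]
    rw [map_sub, sub_eq_zero, map_mul (aeval A) (b * h) (b * h)] at h0
    exact h0.symm
  refine ⟨f, b * h, hfm, hfi, ⟨h, hh⟩, ?_, hidem, ?_, hfe, ?_, ?_⟩
  · exact (Dvd.intro h hh.symm).trans (minpoly.dvd F A (by simp [hA]))
  · intro h0
    have h2 : f ∣ b * h := (Dvd.intro h hh.symm).trans (minpoly.dvd F A h0)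
    exact hfi.not_isUnit (isUnit_of_dvd_one (hab ▸ dvd_add (dvd_mul_left f a) h2))
  · intro h1
    rw [← mul_one (aeval A f), ← h1, hfe]
  · intro R hR
    by_cases hfR : f ∣ R
    · obtain ⟨S, rfl⟩ := hfR
      left
      rw [← map_mul, show f * S * (b * h) = f * (b * h) * S by ring,
        map_mul (aeval A) (f * (b * h)) S, map_mul (aeval A) f (b * h), hfe, zero_mul]
    · right
      obtain ⟨u, v, huv⟩ := ((hfi.coprime_iff_not_dvd).mpr hfR).symm
      -- `e = u R e`
      have h1 : aeval A u * (aeval A R * aeval A (b * h)) = aeval A (b * h) := by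
        have := congrArg (fun Q : F[X] => aeval A Q * aeval A (b * h)) huv
        simp only [map_add, map_mul (aeval A) u R, map_mul (aeval A) v f, map_one, one_mul, add_mul,
          mul_assoc] at this
        rwa [hfe, mul_zero, add_zero] at this
      have hc : aeval A R * aeval A u = aeval A u * aeval A R := by rw [← map_mul, ← map_mul, mul_comm]
      calc aeval A R * aeval A (b * h)
          = aeval A R * (aeval A u * (aeval A R * aeval A (b * h))) := by rw [h1]
        _ = aeval A u * (aeval A R * aeval A R * aeval A (b * h)) := by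
            rw [← mul_assoc, hc]; simp only [mul_assoc]
        _ = aeval A (b * h) := by rw [hR.eq, h1]

/-- The three possibilities for a semisimple isometry. -/
theorem adjoint_trichotomy [Nonempty ι] {p : ℕ} [Fact p.Prime] [CharP F p]
    (σ : Matrix ι ι F → Matrix ι ι F) (τ : F →+* F)
    (hadd : ∀ X Y, σ (X + Y) = σ X + σ Y) (hmul : ∀ X Y, σ (X * Y) = σ Y * σ X)
    (hscal : ∀ a : F, σ (a • 1) = τ a • 1) (hinv : ∀ X, σ (σ X) = X)
    (A : Matrix ι ι F) {E : ℕ} (hE : ¬ p ∣ E) (hA : A ^ E = 1) (hAσ : σ A * A = 1) :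
    (∃ P : F[X], IsIdempotentElem (aeval A P) ∧ σ (aeval A P) = aeval A P ∧
        aeval A P ≠ 0 ∧ aeval A P ≠ 1) ∨
    (∃ f : F[X], f.Monic ∧ Irreducible f ∧ f ∣ X ^ E - 1 ∧ aeval A f = 0 ∧
        f ∣ (f.map τ).comp (X ^ (E - 1))) ∨
    (∃ f P : F[X], f.Monic ∧ Irreducible f ∧ f ∣ X ^ E - 1 ∧ IsIdempotentElem (aeval A P) ∧
        σ (aeval A P) = 1 - aeval A P ∧ aeval A f * aeval A P = 0) := by
  have hEpos : 0 < E := Nat.pos_of_ne_zero (fun h => hE (h ▸ dvd_zero p))
  have hσA : σ A = A ^ (E - 1) := by
    calc σ A = σ A * A ^ (1 + (E - 1)) := by rw [Nat.add_sub_cancel' hEpos, hA, mul_one]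
      _ = A ^ (E - 1) := by rw [pow_add, pow_one, ← mul_assoc, hAσ, one_mul]
  have hone : σ 1 = 1 := by simpa using hscal 1
  have hpow : ∀ k, σ (A ^ k) = σ A ^ k := by
    intro k
    induction k with
    | zero => simp [hone]
    | succ k ih => rw [pow_succ, hmul, ih, ← pow_succ']
  have hσaeval : ∀ Q : F[X], σ (aeval A Q) = aeval A ((Q.map τ).comp (X ^ (E - 1))) := by
    intro Q
    induction Q using Polynomial.induction_on' with
    | add Q R hQ hR => rw [map_add, hadd, hQ, hR, Polynomial.map_add, add_comp, map_add]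
    | monomial k a =>
      rw [aeval_monomial, Algebra.algebraMap_eq_smul_one, hmul, hscal, hpow, Polynomial.map_monomial,
        monomial_comp, map_mul, map_pow, aeval_C, map_pow, aeval_X, ← hσA,
        Algebra.algebraMap_eq_smul_one]
      simp only [smul_mul_assoc, mul_smul_comm, one_mul, mul_one]
  obtain ⟨f, P, hfm, hfi, hfmin, hfE, hidem, hne, hfe, hf1, hprim⟩ := exists_primitive A hE hA
  set e := aeval A P with he
  set Q := (P.map τ).comp (X ^ (E - 1))
  have hQ : σ e = aeval A Q := hσaeval P
  have hidem' : IsIdempotentElem (aeval A Q) := by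
    rw [← hQ, IsIdempotentElem, ← hmul, hidem.eq]
  have hcomm : aeval A Q * e = e * aeval A Q := by rw [he, ← map_mul, ← map_mul, mul_comm]
  have hσ1 : ∀ {X}, σ X = 1 → X = 1 := fun {X} h => by rw [← hinv X, h, hone]
  rcases hprim Q hidem' with h0 | h1
  · have hσe : σ (e + aeval A Q) = e + aeval A Q := by
      rw [hadd, ← hQ, hinv, add_comm]
    by_cases hone' : e + aeval A Q = 1
    · right; right
      refine ⟨f, P, hfm, hfi, hfE, hidem, ?_, hfe⟩
      rw [hQ, eq_sub_iff_add_eq', hone']
    · left
      refine ⟨P + Q, ?_, ?_, ?_, ?_⟩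
      · rw [map_add, IsIdempotentElem, add_mul, mul_add, mul_add, hidem.eq, hidem'.eq, ← hcomm, h0,
          add_zero, zero_add]
      · rw [map_add]; exact hσe
      · rw [map_add]
        intro hz
        apply hne
        have h3 : (e + aeval A Q) * e = 0 := by rw [show e + aeval A Q = 0 from hz, zero_mul]
        rwa [add_mul, hidem.eq, h0, add_zero] at h3
      · rw [map_add]; exact hone'
  · have hσe : σ e = e := by
      have h2 := congrArg σ h1
      rw [hmul, ← hQ, hinv] at h2
      rw [← h2, hQ, h1]
    by_cases he1 : e = 1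
    · right; left
      refine ⟨f, hfm, hfi, hfE, hf1 he1, ?_⟩
      have hz : aeval A ((f.map τ).comp (X ^ (E - 1))) = 0 := by
        rw [← hσaeval, hf1 he1]
        have := hscal 0
        simpa using this
      exact hfmin.trans (minpoly.dvd F A hz)
    · left
      exact ⟨P, hidem, hσe, hne, he1⟩

end Prim

section Module

variable {V : Type*} [AddCommGroup V] [Module F V] [FiniteDimensional F V]

/-- If an endomorphism is annihilated by an irreducible polynomial of degree `d` then `d` divides
the dimension and commuting nilpotent maps have index at most dimension over `d`. -/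
theorem natDegree_dvd_and_pow_eq_zero (φ ν : Module.End F V) (f : F[X]) (hf : Irreducible f)
    (hφ : aeval φ f = 0) (hcomm : Commute ν φ) (hν : IsNilpotent ν) :
    f.natDegree ∣ Module.finrank F V ∧ ν ^ (Module.finrank F V / f.natDegree) = 0 := by
  haveI : Fact (Irreducible f) := ⟨hf⟩
  let ψ : AdjoinRoot f →ₐ[F] Module.End F V := Ideal.Quotient.liftₐ (Ideal.span {f}) (aeval φ)
    (fun a ha => by
      obtain ⟨c, rfl⟩ := Ideal.mem_span_singleton.mp ha
      rw [map_mul, hφ, zero_mul])
  letI : Module (AdjoinRoot f) V := Module.compHom V ψ.toRingHom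
  haveI : IsScalarTower F (AdjoinRoot f) V := IsScalarTower.of_algebraMap_smul fun a v => by
    show ψ (algebraMap F (AdjoinRoot f) a) v = a • v
    rw [AlgHom.commutes]; rfl
  haveI : Module.Finite F (AdjoinRoot f) := (AdjoinRoot.powerBasis hf.ne_zero).finite
  haveI : Module.Finite (AdjoinRoot f) V := Module.Finite.of_restrictScalars_finite F _ _
  have hdim : f.natDegree * Module.finrank (AdjoinRoot f) V = Module.finrank F V := by
    rw [← AdjoinRoot.powerBasis_dim hf.ne_zero, ← (AdjoinRoot.powerBasis hf.ne_zero).finrank]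
    exact Module.finrank_mul_finrank F (AdjoinRoot f) V
  refine ⟨Dvd.intro _ hdim, ?_⟩
  rw [← hdim, Nat.mul_div_cancel_left _ hf.natDegree_pos]
  have hψ : ∀ z : AdjoinRoot f, Commute ν (ψ z) := by
    intro z
    induction z using AdjoinRoot.induction_on with
    | ih Q =>
      rw [← AdjoinRoot.aeval_eq, ← aeval_algHom_apply]
      have hroot : ψ (AdjoinRoot.root f) = φ := by
        show aeval φ (X : F[X]) = φ
        rw [aeval_X]
      rw [hroot]
      induction Q using Polynomial.induction_on' with
      | add Q R hQ hR => rw [map_add]; exact hQ.add_right hR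
      | monomial k a =>
        rw [aeval_monomial]
        exact (show Commute ν (algebraMap F _ a) from (Algebra.commutes a ν).symm).mul_right
          (hcomm.pow_right k)
  let ν' : Module.End (AdjoinRoot f) V :=
    { toFun := ν
      map_add' := map_add ν
      map_smul' := fun z v => by
        show ν (ψ z v) = ψ z (ν v)
        exact LinearMap.congr_fun (hψ z).eq v }
  have hpow : ∀ (k : ℕ) (v : V), (ν' ^ k) v = (ν ^ k) v := by
    intro k
    induction k with
    | zero => intro v; rfl
    | succ k ih => intro v; rw [pow_succ, pow_succ, Module.End.mul_apply, Module.End.mul_apply, ih]; rfl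
  obtain ⟨k, hk⟩ := hν
  have hnil : IsNilpotent ν' := ⟨k, LinearMap.ext fun v => by rw [hpow, hk]; rfl⟩
  have := (LinearMap.isNilpotent_iff_charpoly ν').mp hnil
  have h0 := ν'.aeval_self_charpoly
  rw [this, map_pow, aeval_X] at h0
  exact LinearMap.ext fun v => by rw [← hpow, h0]; rfl

variable {ι : Type*} [Fintype ι] [DecidableEq ι]

/-- The matrix version on the range of an idempotent. -/
theorem idempotent_range_bound (A N e : Matrix ι ι F) (f : F[X]) (hf : Irreducible f)
    (he : IsIdempotentElem e) (heA : Commute e A) (heN : Commute e N) (hAN : Commute N A)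
    (hfe : aeval A f * e = 0) (hN : IsNilpotent N) :
    f.natDegree ∣ e.rank ∧ N ^ (e.rank / f.natDegree) * e = 0 := by
  let W := LinearMap.range (Matrix.toLin' e)
  have hW : ∀ (M : Matrix ι ι F), Commute e M → ∀ v ∈ W, Matrix.toLin' M v ∈ W := by
    rintro M hM v ⟨w, rfl⟩
    refine ⟨Matrix.toLin' M w, ?_⟩
    rw [← LinearMap.comp_apply, ← Matrix.toLin'_mul, hM.eq, Matrix.toLin'_mul]
    rfl
  let φ : Module.End F W := (Matrix.toLin' A).restrict (hW A heA)
  let ν : Module.End F W := (Matrix.toLin' N).restrict (hW N heN)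
  have hpowν : ∀ (k : ℕ) (v : W), ((ν ^ k) v : ι → F) = Matrix.toLin' (N ^ k) v := by
    intro k
    induction k with
    | zero => intro v; simp
    | succ k ih =>
      intro v
      rw [pow_succ, Module.End.mul_apply, ih, pow_succ, Matrix.toLin'_mul]
      rfl
  have hpowφ : ∀ (k : ℕ) (v : W), ((φ ^ k) v : ι → F) = Matrix.toLin' (A ^ k) v := by
    intro k
    induction k with
    | zero => intro v; simp
    | succ k ih =>
      intro v
      rw [pow_succ, Module.End.mul_apply, ih, pow_succ, Matrix.toLin'_mul]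
      rfl
  have haev : ∀ (Q : F[X]) (v : W), ((aeval φ Q) v : ι → F) = Matrix.toLin' (aeval A Q) v := by
    intro Q
    induction Q using Polynomial.induction_on' with
    | add Q R hQ hR => intro v; simp [hQ, hR]
    | monomial k a =>
      intro v
      simp [aeval_monomial, Algebra.algebraMap_eq_smul_one, hpowφ]
  have hev : ∀ v : W, Matrix.toLin' e v = (v : ι → F) := by
    rintro ⟨-, w, rfl⟩
    show Matrix.toLin' e (Matrix.toLin' e w) = Matrix.toLin' e w
    rw [← LinearMap.comp_apply, ← Matrix.toLin'_mul, he.eq]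
  have hφ : aeval φ f = 0 := by
    refine LinearMap.ext fun v => Subtype.ext ?_
    rw [haev, ← hev v, ← LinearMap.comp_apply, ← Matrix.toLin'_mul, hfe]
    simp
  have hcomm : Commute ν φ := by
    refine LinearMap.ext fun v => Subtype.ext ?_
    show Matrix.toLin' N (Matrix.toLin' A v) = Matrix.toLin' A (Matrix.toLin' N v)
    rw [← LinearMap.comp_apply, ← Matrix.toLin'_mul, hAN.eq, Matrix.toLin'_mul]
    rfl
  obtain ⟨k, hk⟩ := hN
  have hν : IsNilpotent ν := ⟨k, LinearMap.ext fun v => Subtype.ext (by rw [hpowν, hk]; simp)⟩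
  obtain ⟨h1, h2⟩ := natDegree_dvd_and_pow_eq_zero φ ν f hf hφ hcomm hν
  have hrank : Module.finrank F W = e.rank := rfl
  rw [hrank] at h1 h2
  refine ⟨h1, ?_⟩
  apply Matrix.toLin'.injective
  refine LinearMap.ext fun w => ?_
  rw [Matrix.toLin'_mul, map_zero, LinearMap.comp_apply,
    ← hpowν _ ⟨Matrix.toLin' e w, LinearMap.mem_range_self _ w⟩, h2]
  rfl

/-- Transfer an equation `x ^ k = c` at a root to the image of the idempotent. -/
theorem pow_sub_mul_eq_zero (A e : Matrix ι ι F) (f : F[X]) (hfe : aeval A f * e = 0) (k : ℕ) (c : F)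
    (h : AdjoinRoot.root f ^ k = algebraMap F (AdjoinRoot f) c) : (A ^ k - c • 1) * e = 0 := by
  have hdvd : f ∣ X ^ k - C c := by
    rw [← AdjoinRoot.mk_eq_zero, map_sub, map_pow, AdjoinRoot.mk_X, AdjoinRoot.mk_C,
      ← AdjoinRoot.algebraMap_eq, h, sub_self]
  obtain ⟨S, hS⟩ := hdvd
  have := congrArg (aeval A) hS
  rw [map_sub, map_pow, aeval_X, aeval_C, Algebra.algebraMap_eq_smul_one, mul_comm f S, map_mul] at this
  rw [this, mul_assoc, hfe, mul_zero]

end Module

end CfsgLib.SympOrders
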