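import Mathlib
import Cfsg.Prelude.Def_Classical
import Cfsg.Agent.SympOrders.Adjoint

/-!
# Orders of elements of `PSp (2n, q)`, `q` odd: the four kinds of elements

`classification`: for `g` in `Sp (2n, q)` the order of its image in `PSp` is covered by one of:
a commuting involution; `p ^ T`; one of `(q ^ n ± 1) / 2`; or `p ^ t * (q ^ j ± 1)` with `j ∣ n`,
`j < n` and `p ^ (t - 1) < n / j`.
-/

set_option autoImplicit false

open Polynomial Matrix

namespace CfsgLib.SympOrders

variable {F : Type*} [Field F] {n : ℕ}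

/-- The symplectic adjoint. -/
def sAdj (n : ℕ) (X : Matrix (Fin n ⊕ Fin n) (Fin n ⊕ Fin n) F) :
    Matrix (Fin n ⊕ Fin n) (Fin n ⊕ Fin n) F :=
  -(Matrix.J (Fin n) F * Xᵀ * Matrix.J (Fin n) F)

theorem sAdj_add (X Y : Matrix (Fin n ⊕ Fin n) (Fin n ⊕ Fin n) F) :
    sAdj n (X + Y) = sAdj n X + sAdj n Y := by
  simp only [sAdj, transpose_add, Matrix.mul_add, Matrix.add_mul, neg_add]

theorem sAdj_mul (X Y : Matrix (Fin n ⊕ Fin n) (Fin n ⊕ Fin n) F) :
    sAdj n (X * Y) = sAdj n Y * sAdj n X := by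
  simp only [sAdj, transpose_mul, neg_mul, mul_neg, neg_neg, mul_assoc]
  rw [← mul_assoc (Matrix.J (Fin n) F) (Matrix.J (Fin n) F), Matrix.J_squared]
  simp

theorem sAdj_smul (a : F) : sAdj n (a • (1 : Matrix (Fin n ⊕ Fin n) (Fin n ⊕ Fin n) F)) = a • 1 := by
  simp [sAdj, Matrix.J_squared]

theorem sAdj_sAdj (X : Matrix (Fin n ⊕ Fin n) (Fin n ⊕ Fin n) F) : sAdj n (sAdj n X) = X := by
  simp only [sAdj, transpose_neg, transpose_mul, transpose_transpose, Matrix.J_transpose, neg_mul,
    mul_neg, neg_neg, ← mul_assoc, Matrix.J_squared]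
  simp [mul_assoc, Matrix.J_squared]

theorem mem_iff_sAdj {A : Matrix (Fin n ⊕ Fin n) (Fin n ⊕ Fin n) F} :
    A ∈ Matrix.symplecticGroup (Fin n) F ↔ sAdj n A * A = 1 := by
  rw [mul_eq_one_comm, SymplecticGroup.mem_iff, sAdj, mul_neg, neg_eq_iff_eq_neg]
  constructor
  · intro h
    rw [← mul_assoc, ← mul_assoc, h, Matrix.J_squared]
  · intro h
    have h1 := congrArg (· * Matrix.J (Fin n) F) h
    simp only [mul_assoc, Matrix.J_squared, mul_neg, mul_one, neg_mul, one_mul, neg_inj] at h1
    rw [mul_assoc]; exact h1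

theorem sAdj_mul_self (g : Matrix.symplecticGroup (Fin n) F) :
    sAdj n (g : Matrix (Fin n ⊕ Fin n) (Fin n ⊕ Fin n) F) * g = 1 := mem_iff_sAdj.mp g.2

theorem scalar_of_mem_center {g : Matrix.symplecticGroup (Fin n) F}
    (hg : g ∈ Subgroup.center (Matrix.symplecticGroup (Fin n) F)) :
    ∃ c : F, (g : Matrix (Fin n ⊕ Fin n) (Fin n ⊕ Fin n) F) = c • 1 := by
  rw [Subgroup.mem_center_iff] at hg
  obtain ⟨a, b, c, d, hM⟩ : ∃ a b c d, (g : Matrix (Fin n ⊕ Fin n) (Fin n ⊕ Fin n) F) = fromBlocks a b c d :=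
    ⟨_, _, _, _, (fromBlocks_toBlocks _).symm⟩
  have hcomm : ∀ h : Matrix (Fin n ⊕ Fin n) (Fin n ⊕ Fin n) F, h ∈ Matrix.symplecticGroup (Fin n) F →
      h * fromBlocks a b c d = fromBlocks a b c d * h := fun h hh => by
    rw [← hM]; exact congrArg Subtype.val (hg ⟨h, hh⟩)
  have hU : fromBlocks (1 : Matrix (Fin n) (Fin n) F) 1 0 1 ∈ Matrix.symplecticGroup (Fin n) F := by
    simp [SymplecticGroup.mem_iff, Matrix.J, fromBlocks_transpose, fromBlocks_multiply]
  have hL : fromBlocks (1 : Matrix (Fin n) (Fin n) F) 0 1 1 ∈ Matrix.symplecticGroup (Fin n) F := by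
    simp [SymplecticGroup.mem_iff, Matrix.J, fromBlocks_transpose, fromBlocks_multiply]
  have h1 := hcomm _ hU
  have h2 := hcomm _ hL
  simp only [fromBlocks_multiply, Matrix.one_mul, Matrix.mul_one, Matrix.zero_mul, Matrix.mul_zero,
    add_zero, zero_add, fromBlocks_inj] at h1 h2
  obtain ⟨hc, hd, -, -⟩ := h1
  obtain ⟨hb, -, -, -⟩ := h2
  have hc0 : c = 0 := by simpa using hc
  have hb0 : b = 0 := by simpa using hb
  have hda : d = a := by
    rw [add_comm b d] at hd
    exact add_right_cancel hd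
  subst hc0 hb0 hda
  have ha : d ∈ Set.range (scalar (Fin n)) := by
    refine mem_range_scalar_of_commute_transvectionStruct fun t => ?_
    have hT : fromBlocks t.toMatrix 0 0 ((transvection t.j t.i (-t.c))) ∈
        Matrix.symplecticGroup (Fin n) F := by
      have h1 : t.toMatrix * (transvection t.j t.i (-t.c))ᵀ = 1 := by
        have : (transvection t.j t.i (-t.c))ᵀ = transvection t.i t.j (-t.c) := by
          simp [transvection, transpose_single]
        rw [this, TransvectionStruct.toMatrix, transvection_mul_transvection_same t.i t.j t.hij,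
          add_neg_cancel, transvection_zero]
      have h2 : transvection t.j t.i (-t.c) * t.toMatrixᵀ = 1 := by
        have := congrArg Matrix.transpose h1
        simpa [transpose_mul] using this
      simp [SymplecticGroup.mem_iff, Matrix.J, fromBlocks_transpose, fromBlocks_multiply, h1, h2]
    have := hcomm _ hT
    simp only [fromBlocks_multiply, Matrix.zero_mul, Matrix.mul_zero, add_zero, zero_add,
      fromBlocks_inj] at this
    exact this.1
  obtain ⟨r, hr⟩ := ha
  refine ⟨r, ?_⟩
  rw [hM, ← hr, scalar_apply, ← smul_one_eq_diagonal, ← fromBlocks_one, fromBlocks_smul, smul_zero]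

theorem center_of_scalar {g : Matrix.symplecticGroup (Fin n) F} {c : F}
    (h : (g : Matrix (Fin n ⊕ Fin n) (Fin n ⊕ Fin n) F) = c • 1) :
    g ∈ Subgroup.center (Matrix.symplecticGroup (Fin n) F) := by
  rw [Subgroup.mem_center_iff]
  intro x
  apply Subtype.ext
  rw [Submonoid.coe_mul, Submonoid.coe_mul, h]
  simp

theorem mk_pow_eq_one_iff (g : Matrix.symplecticGroup (Fin n) F) (k : ℕ) :
    (QuotientGroup.mk g : Cfsg.PSp n F) ^ k = 1 ↔
      ∃ c : F, (g : Matrix (Fin n ⊕ Fin n) (Fin n ⊕ Fin n) F) ^ k = c • 1 := by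
  rw [← QuotientGroup.mk_pow, QuotientGroup.eq_one_iff]
  constructor
  · intro h
    obtain ⟨c, hc⟩ := scalar_of_mem_center h
    exact ⟨c, by rw [← SubmonoidClass.coe_pow]; exact hc⟩
  · rintro ⟨c, hc⟩
    exact center_of_scalar (by rw [SubmonoidClass.coe_pow]; exact hc)

theorem scalar_sq {g : Matrix.symplecticGroup (Fin n) F} {c : F} (hn : 0 < n)
    (h : (g : Matrix (Fin n ⊕ Fin n) (Fin n ⊕ Fin n) F) = c • 1) : c * c = 1 := by
  have := sAdj_mul_self g
  rw [h, sAdj_smul, smul_mul_smul_comm, mul_one] at this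
  simpa using congrFun (congrFun this (Sum.inl ⟨0, hn⟩)) (Sum.inl ⟨0, hn⟩)

variable [Fintype F]

theorem pow_sub_one_dvd {j k : ℕ} (h : j ∣ k) (q : ℕ) : q ^ j - 1 ∣ q ^ k - 1 :=
  Nat.pow_sub_one_dvd_pow_sub_one q h

/-- The degree and root exponent in the self-reciprocal case. -/
theorem selfReciprocal_root {f : F[X]} (hf : Irreducible f) {E : ℕ} (hE : f ∣ X ^ E - 1) (hEpos : 0 < E)
    (hrec : f ∣ f.comp (X ^ (E - 1))) :
    AdjoinRoot.root f ^ 2 = 1 ∨ ∃ j : ℕ, 1 ≤ j ∧ f.natDegree = 2 * j ∧
      AdjoinRoot.root f ^ (Fintype.card F ^ j + 1) = 1 := by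
  haveI : Fact (Irreducible f) := ⟨hf⟩
  set x := AdjoinRoot.root f with hx
  by_cases hx2 : x ^ 2 = 1
  · exact Or.inl hx2
  right
  have hxE : x ^ E = 1 := by
    have := AdjoinRoot.mk_eq_zero.mpr hE
    rw [map_sub, map_pow, AdjoinRoot.mk_X, map_one, sub_eq_zero] at this
    exact this
  have hxi : x ^ (E - 1) * x = 1 := by rw [← pow_succ, Nat.sub_add_cancel hEpos, hxE]
  have hroot : (aeval (x ^ (E - 1))) f = 0 := by
    have := AdjoinRoot.mk_eq_zero.mpr hrec
    rw [← AdjoinRoot.aeval_eq, aeval_comp, map_pow, aeval_X] at this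
    exact this
  let φ : AdjoinRoot f →ₐ[F] AdjoinRoot f := AdjoinRoot.liftAlgHom f (Algebra.ofId F _) (x ^ (E - 1))
    (by rw [aeval_def] at hroot; exact hroot)
  haveI : Finite (AdjoinRoot f) := Nat.finite_of_card_ne_zero (by
    rw [CfsgLib.LinearOrders.card_adjoinRoot hf.ne_zero]; exact pow_ne_zero _ Fintype.card_ne_zero)
  have hφx : φ x = x ^ (E - 1) := by simp [φ, hx]
  let φe : AdjoinRoot f ≃ₐ[F] AdjoinRoot f := AlgEquiv.ofBijective φ
    ⟨φ.injective, Finite.injective_iff_surjective.mp φ.injective⟩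
  obtain ⟨i, hi⟩ := (FiniteField.bijective_frobeniusAlgEquivOfAlgebraic_pow F (AdjoinRoot f)).2 φe
  set d := f.natDegree with hd
  set q := Fintype.card F with hq
  have hfin : Module.finrank F (AdjoinRoot f) = d := by
    rw [(AdjoinRoot.powerBasis hf.ne_zero).finrank, AdjoinRoot.powerBasis_dim]
  have hid : i.val < d := hfin ▸ i.2
  have hxq : x ^ q ^ i.val = x ^ (E - 1) := by
    rw [← hφx]
    have := congrArg (fun e : AdjoinRoot f ≃ₐ[F] AdjoinRoot f => e x) hi
    simp [AlgEquiv.coe_pow, FiniteField.coe_frobeniusAlgEquivOfAlgebraic, pow_iterate, φe] at this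
    exact this
  have hxq1 : x ^ (q ^ i.val + 1) = 1 := by rw [pow_succ, hxq, hxi]
  have hne : i.val ≠ 0 := fun h0 => hx2 (by simpa [h0] using hxq1)
  have hfix : x ^ q ^ (2 * i.val) = x := by
    rw [two_mul, pow_add, pow_mul, hxq, ← pow_mul, mul_comm, pow_mul, hxq]
    calc (x ^ (E - 1)) ^ (E - 1) = (x ^ (E - 1)) ^ (E - 1) * (x ^ (E - 1) * x) := by rw [hxi, mul_one]
      _ = (x ^ E) ^ (E - 1) * x := by
        rw [← mul_assoc, ← pow_mul, ← pow_add, ← pow_mul]
        congr 2
        obtain ⟨e', rfl⟩ : ∃ e', E = e' + 1 := ⟨E - 1, by omega⟩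
        simp only [Nat.add_sub_cancel]; ring
      _ = x := by rw [hxE, one_pow, one_mul]
  have hdvd : d ∣ 2 * i.val := by
    refine hf.natDegree_dvd_of_dvd_X_pow_card_pow_sub_X ?_
    rw [← AdjoinRoot.mk_eq_zero, map_sub, map_pow, AdjoinRoot.mk_X, Nat.card_eq_fintype_card, ← hx,
      ← hq, hfix, sub_self]
  obtain ⟨c, hc⟩ := hdvd
  have hc1 : c = 1 := by
    rcases Nat.lt_or_ge c 2 with h | h
    · interval_cases c <;> omega
    · have := Nat.mul_le_mul_left d h
      omega
  exact ⟨i.val, Nat.pos_of_ne_zero hne, by rw [hc, hc1, mul_one], hxq1⟩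

/-- Conclusion for an element: how the order of its image in `PSp` can be covered. -/
theorem classification (hn : 1 ≤ n) (hodd : Odd (Fintype.card F)) {p T : ℕ} [Fact p.Prime] [CharP F p]
    (hT : 2 * n ≤ p ^ T) (g : Matrix.symplecticGroup (Fin n) F) :
    (∃ x : Cfsg.PSp n F, orderOf (QuotientGroup.mk g : Cfsg.PSp n F) ∣ orderOf x ∧ 2 ∣ orderOf x) ∨
    orderOf (QuotientGroup.mk g : Cfsg.PSp n F) ∣ p ^ T ∨
    orderOf (QuotientGroup.mk g : Cfsg.PSp n F) ∣ (Fintype.card F ^ n + 1) / 2 ∨
    orderOf (QuotientGroup.mk g : Cfsg.PSp n F) ∣ (Fintype.card F ^ n - 1) / 2 ∨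
    ∃ j t : ℕ, 1 ≤ j ∧ j < n ∧ (1 ≤ t → p ^ (t - 1) < 2 * (n - j)) ∧
      (orderOf (QuotientGroup.mk g : Cfsg.PSp n F) ∣ p ^ t * (Fintype.card F ^ j + 1) ∨
       orderOf (QuotientGroup.mk g : Cfsg.PSp n F) ∣ p ^ t * (Fintype.card F ^ j - 1)) := by
  classical
  haveI : Nonempty (Fin n) := ⟨⟨0, hn⟩⟩
  set q := Fintype.card F with hq
  have hp : p.Prime := Fact.out
  obtain ⟨a, E, hE, ho⟩ := Nat.exists_eq_pow_mul_and_not_dvd (orderOf_pos g).ne' p hp.ne_one
  have hEpos : 0 < E := Nat.pos_of_ne_zero (fun h => hE (h ▸ dvd_zero p))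
  set G := (g : Matrix (Fin n ⊕ Fin n) (Fin n ⊕ Fin n) F) with hG
  have hg : G ^ (p ^ a * E) = 1 := by
    rw [hG, ← SubmonoidClass.coe_pow, ← ho, pow_orderOf_eq_one]; rfl
  set s := G ^ p ^ a with hs
  have hsE : s ^ E = 1 := by rw [hs, ← pow_mul, hg]
  have hsσ : sAdj n s * s = 1 := by
    have := sAdj_mul_self (g ^ p ^ a)
    rwa [SubmonoidClass.coe_pow] at this
  set o := orderOf (QuotientGroup.mk g : Cfsg.PSp n F)
  -- the nilpotent part
  set N := G ^ E - 1 with hN
  have hNnil : IsNilpotent N := ⟨p ^ a, by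
    rw [hN, sub_pow_char_pow_of_commute (p := p) (h := Commute.one_right _), ← pow_mul, mul_comm E, hg,
      one_pow, sub_self]⟩
  have hcop : Nat.Coprime E p := ((hp.coprime_iff_not_dvd).mpr hE).symm
  have hscal : ∀ k (c : F), G ^ k = c • 1 → o ∣ k := fun k c h =>
    orderOf_dvd_of_pow_eq_one ((mk_pow_eq_one_iff g k).mpr ⟨c, h⟩)
  -- bounding by `p ^ t * k`
  have hbound : ∀ t k (c : F), s ^ k = c • 1 → N ^ p ^ t = 0 → o ∣ p ^ t * k := by
    intro t k c hk hNt
    have h1 : o ∣ p ^ a * k := hscal _ c (by rw [pow_mul, ← hs]; exact hk)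
    have h2 : o ∣ p ^ t * E := hscal _ 1 (by
      rw [hN, sub_pow_char_pow_of_commute (p := p) (h := Commute.one_right _), one_pow, sub_eq_zero,
        ← pow_mul, mul_comm E] at hNt
      rw [one_smul, hNt])
    refine (Nat.dvd_gcd h2 h1).trans ((Nat.gcd_mul_left_dvd_mul_gcd _ _ _).trans ?_)
    exact mul_dvd_mul (Nat.gcd_dvd_left _ _) ((Nat.Coprime.dvd_of_dvd_mul_left
      (Nat.Coprime.coprime_dvd_left (Nat.gcd_dvd_left _ _) (hcop.pow_right a)) (Nat.gcd_dvd_right _ _)))
  have hqodd : q % 2 = 1 := Nat.odd_iff.mp hodd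
  rcases adjoint_trichotomy (σ := sAdj n) (τ := RingHom.id F) sAdj_add sAdj_mul sAdj_smul sAdj_sAdj s hE
      hsE hsσ with ⟨P, hP, hPσ, hP0, hP1⟩ | ⟨f, hfm, hfi, hfE, hfs, hrec⟩ |
      ⟨f, P, hfm, hfi, hfE, hP, hPσ, hfe⟩
  · -- commuting involution
    left
    set e := aeval s P with he
    let C : Matrix (Fin n ⊕ Fin n) (Fin n ⊕ Fin n) F := 1 - (2 : F) • e
    have hCC : C * C = 1 := by
      simp only [C, sub_mul, mul_sub, one_mul, mul_one, smul_mul_smul_comm, hP.eq]
      module
    have hCσ : sAdj n C = C := by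
      have h1 : C + (2 : F) • e = 1 := sub_add_cancel 1 _
      have h2 : sAdj n ((2 : F) • e) = (2 : F) • e := by
        have : (2 : F) • e = e + e := two_smul F e
        rw [this, sAdj_add, hPσ]
      have h3 := congrArg (sAdj n) h1
      rw [sAdj_add, h2] at h3
      have hone : sAdj n (1 : Matrix (Fin n ⊕ Fin n) (Fin n ⊕ Fin n) F) = 1 := by
        simpa using sAdj_smul (n := n) (1 : F)
      rw [hone] at h3
      exact add_right_cancel (h3.trans h1.symm)
    have hCmem : C ∈ Matrix.symplecticGroup (Fin n) F := mem_iff_sAdj.mpr (by rw [hCσ, hCC])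
    let c : Matrix.symplecticGroup (Fin n) F := ⟨C, hCmem⟩
    have h2ne : (2 : F) ≠ 0 := Ring.two_ne_zero fun h => by
      have : Even (Fintype.card F) := FiniteField.even_card_iff_char_two.mp h |> fun h' => Nat.even_iff.mpr h'
      exact (Nat.not_even_iff_odd.mpr hodd) this
    have hc2 : (QuotientGroup.mk c : Cfsg.PSp n F) ^ 2 = 1 :=
      (mk_pow_eq_one_iff c 2).mpr ⟨1, by rw [one_smul, sq]; exact hCC⟩
    have hc1 : (QuotientGroup.mk c : Cfsg.PSp n F) ≠ 1 := by
      intro h
      rw [QuotientGroup.eq_one_iff] at h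
      obtain ⟨b, hb⟩ := scalar_of_mem_center h
      change 1 - (2 : F) • e = b • 1 at hb
      have he' : e = ((1 - b) / 2) • 1 := by
        have h' : (2 : F) • e = (1 - b) • 1 := by
          rw [sub_smul, one_smul, ← hb]; abel
        rw [div_eq_inv_mul, mul_smul, ← h', smul_smul, inv_mul_cancel₀ h2ne, one_smul]
      set u := (1 - b) / 2
      have hu : u * u = u := by
        have := hP.eq
        rw [he', smul_mul_smul_comm, one_mul] at this
        simpa using congrFun (congrFun this (Sum.inl ⟨0, hn⟩)) (Sum.inl ⟨0, hn⟩)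
      rcases eq_or_ne u 0 with h0 | h0
      · exact hP0 (by rw [he', h0, zero_smul])
      · exact hP1 (by rw [he', mul_left_cancel₀ h0 (hu.trans (mul_one u).symm), one_smul])
    haveI : Fact (Nat.Prime 2) := ⟨Nat.prime_two⟩
    have hord := orderOf_eq_prime hc2 hc1
    have hgs : Commute G e := by
      rw [he, hs]
      have : aeval (G ^ p ^ a) P = aeval G (P.comp (X ^ p ^ a)) := by rw [aeval_comp, map_pow, aeval_X]
      rw [this]
      conv_lhs => rw [← aeval_X (R := F) G]
      exact (Commute.all _ _).map (aeval G)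
    have hgc : Commute g c := Subtype.ext ((Commute.one_right G).sub_right (hgs.smul_right (2 : F))).eq
    obtain ⟨x, -, hx⟩ := (hgc.map (QuotientGroup.mk' (Subgroup.center _))).exists_orderOf_eq_lcm
    exact ⟨x, hx ▸ Nat.dvd_lcm_left _ _, hx ▸ hord ▸ Nat.dvd_lcm_right _ _⟩
  · -- irreducible self-reciprocal minimal polynomial
    right
    haveI : Fact (Irreducible f) := ⟨hfi⟩
    have hrec' : f ∣ f.comp (X ^ (E - 1)) := by rwa [Polynomial.map_id] at hrec
    have hone : aeval s f * 1 = 0 := by rw [mul_one, hfs]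
    have hb := idempotent_range_bound s N 1 f hfi IsIdempotentElem.one (Commute.one_left _)
      (Commute.one_left _) (((Commute.pow_pow_self G E _).sub_left (Commute.one_left _))) hone hNnil
    rw [Matrix.rank_one, mul_one, Fintype.card_sum, Fintype.card_fin, ← two_mul] at hb
    obtain ⟨hd, hNm⟩ := hb
    rcases selfReciprocal_root hfi hfE hEpos hrec' with hx | ⟨j, hj, hdeg, hx⟩
    · -- `s = ± 1`
      left
      obtain ⟨c, -, hc⟩ : ∃ c : F, c * c = 1 ∧ AdjoinRoot.root f ^ 1 = algebraMap F _ c := by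
        rcases sq_eq_one_iff.mp hx with h | h
        · exact ⟨1, one_mul 1, by rw [pow_one, h, map_one]⟩
        · exact ⟨-1, by ring, by rw [pow_one, h, map_neg, map_one]⟩
      have := pow_sub_mul_eq_zero s 1 f hone 1 c hc
      rw [mul_one, sub_eq_zero, pow_one] at this
      have := hbound T 1 c (by rw [pow_one]; exact this) (by
        have h0 := CfsgLib.LinearOrders.pow_card_eq_zero N hNnil.choose_spec
        rw [Fintype.card_sum, Fintype.card_fin, ← two_mul] at h0
        rw [← Nat.sub_add_cancel hT, pow_add, h0, mul_zero])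
      simpa using this
    · right
      rw [hdeg] at hd hNm
      obtain ⟨m, hm⟩ := Nat.dvd_of_mul_dvd_mul_left two_pos hd
      rw [Nat.mul_div_mul_left _ _ two_pos, show n / j = m from Nat.div_eq_of_eq_mul_right hj hm] at hNm
      have hs1 : s ^ (q ^ j + 1) = (1 : F) • 1 := by
        have := pow_sub_mul_eq_zero s 1 f hone (q ^ j + 1) 1 (by rw [hx, map_one])
        rw [mul_one, sub_eq_zero] at this
        exact this
      rcases Nat.lt_or_ge m 2 with hm2 | hm2
      · -- `j = n`
        left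
        have hm1 : m = 1 := by
          interval_cases m
          · simp at hm; omega
          · rfl
        rw [hm1, mul_one] at hm
        rw [hm1, pow_one] at hNm
        obtain ⟨c, -, hc⟩ : ∃ c : F, c * c = 1 ∧
            AdjoinRoot.root f ^ ((q ^ n + 1) / 2) = algebraMap F _ c := by
          have h2 : (AdjoinRoot.root f ^ ((q ^ n + 1) / 2)) ^ 2 = 1 := by
            rw [← pow_mul, Nat.div_mul_cancel (by
              rw [Nat.dvd_iff_mod_eq_zero, Nat.add_mod, Nat.pow_mod, hqodd, one_pow] <;> norm_num), hm, hx]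
          rcases sq_eq_one_iff.mp h2 with h | h
          · exact ⟨1, one_mul 1, by rw [h, map_one]⟩
          · exact ⟨-1, by ring, by rw [h, map_neg, map_one]⟩
        have := pow_sub_mul_eq_zero s 1 f hone _ c hc
        rw [mul_one, sub_eq_zero] at this
        simpa using hbound 0 _ c this (by simpa using hNm)
      · right; right
        refine ⟨j, Nat.clog p m, hj, ?_, fun _ => ?_, Or.inl ?_⟩
        · have := Nat.mul_le_mul_left j hm2; omega
        · have h1 : p ^ (Nat.clog p m - 1) < m := Nat.pow_pred_clog_lt_self hp.one_lt (by omega : 1 < m)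
          obtain ⟨m', rfl⟩ : ∃ m', m = m' + 2 := ⟨m - 2, by omega⟩
          obtain ⟨j', rfl⟩ : ∃ j', j = j' + 1 := ⟨j - 1, by omega⟩
          have : (j' + 1) * (m' + 2) = (j' + 1) + (j' + 1) * (m' + 1) := by ring
          have h3 : m' + 1 ≤ (j' + 1) * (m' + 1) := Nat.le_mul_of_pos_left _ (by omega)
          omega
        · exact hbound _ _ 1 hs1 (by
            rw [← Nat.sub_add_cancel (Nat.le_pow_clog hp.one_lt m), pow_add, hNm, mul_zero])
  · -- a pair of totally singular eigenspaces
    right; right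
    haveI : Fact (Irreducible f) := ⟨hfi⟩
    set e := aeval s P with he
    set d := f.natDegree with hd
    have hes : Commute e s := by
      rw [he]; conv_rhs => rw [← aeval_X (R := F) s]
      exact (Commute.all _ _).map (aeval s)
    have heG : Commute e G := by
      rw [he, hs]
      have : aeval (G ^ p ^ a) P = aeval G (P.comp (X ^ p ^ a)) := by rw [aeval_comp, map_pow, aeval_X]
      rw [this]
      conv_rhs => rw [← aeval_X (R := F) G]
      exact (Commute.all _ _).map (aeval G)
    have heN : Commute e N := (heG.pow_right E).sub_right (Commute.one_right _)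
    obtain ⟨hdn, hNm⟩ := idempotent_range_bound s N e f hfi hP hes heN
      ((Commute.pow_pow_self G E _).sub_left (Commute.one_left _)) hfe hNnil
    have hrank : e.rank = n := by
      have h1 : (sAdj n e).rank = e.rank := by
        have hJ : IsUnit (Matrix.J (Fin n) F).det := by
          have := congrArg Matrix.det (Matrix.J_squared (Fin n) F)
          rw [det_mul, det_neg, det_one, mul_one] at this
          exact isUnit_of_mul_isUnit_left (this ▸ (IsUnit.neg isUnit_one).pow _)
        rw [sAdj, show -(Matrix.J (Fin n) F * eᵀ * Matrix.J (Fin n) F) =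
          (-Matrix.J (Fin n) F) * eᵀ * Matrix.J (Fin n) F by rw [neg_mul, neg_mul],
          Matrix.rank_mul_eq_left_of_isUnit_det _ _ hJ, Matrix.rank_mul_eq_right_of_isUnit_det,
          Matrix.rank_transpose]
        rw [det_neg]
        exact ((IsUnit.neg isUnit_one).pow _).mul hJ
      rw [hPσ] at h1
      have h2 : (1 - e).rank + e.rank = 2 * n := by
        have hker : LinearMap.range (Matrix.toLin' (1 - e)) = LinearMap.ker (Matrix.toLin' e) := by
          ext v
          constructor
          · rintro ⟨w, rfl⟩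
            rw [LinearMap.mem_ker, ← LinearMap.comp_apply, ← Matrix.toLin'_mul, mul_sub, mul_one, hP.eq,
              sub_self, map_zero, LinearMap.zero_apply]
          · intro hv
            rw [LinearMap.mem_ker] at hv
            exact ⟨v, by rw [map_sub, LinearMap.sub_apply, hv, sub_zero, Matrix.toLin'_one, LinearMap.id_apply]⟩
        have := LinearMap.finrank_range_add_finrank_ker (Matrix.toLin' e)
        rw [← hker, Module.finrank_fintype_fun_eq_card, Fintype.card_sum, Fintype.card_fin] at this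
        have h3 : Module.finrank F (LinearMap.range (Matrix.toLin' (1 - e))) = (1 - e).rank := rfl
        have h4 : Module.finrank F (LinearMap.range (Matrix.toLin' e)) = e.rank := rfl
        omega
      omega
    rw [hrank] at hdn hNm
    obtain ⟨m, hm⟩ := hdn
    rw [show n / f.natDegree = m from Nat.div_eq_of_eq_mul_right hfi.natDegree_pos hm] at hNm
    -- from the image of `e` to everything
    have hext : ∀ k (c : F), c * c = 1 → (s ^ k - c • 1) * e = 0 → s ^ k = c • 1 := by
      intro k c hcc h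
      have h' := congrArg (sAdj n) h
      rw [sAdj_mul, hPσ] at h'
      have hsk : sAdj n (s ^ k) * s ^ k = 1 := by
        exact mem_iff_sAdj.mp (by
          have := ((g ^ (p ^ a)) ^ k).2
          rwa [SubmonoidClass.coe_pow, SubmonoidClass.coe_pow] at this)
      have hz : sAdj n (0 : Matrix (Fin n ⊕ Fin n) (Fin n ⊕ Fin n) F) = 0 := by simp [sAdj]
      rw [hz] at h'
      have h5 : sAdj n (s ^ k - c • 1) = sAdj n (s ^ k) - c • 1 := by
        have := sAdj_add (n := n) (s ^ k - c • 1) (c • 1)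
        rw [sub_add_cancel, sAdj_smul] at this
        exact eq_sub_of_add_eq this.symm
      rw [h5] at h'
      have h6 : (1 - e) * (s ^ k - c • 1) = 0 := by
        have h7 : (1 - e) * ((sAdj n (s ^ k) - c • 1) * (c • s ^ k)) = 0 := by
          rw [← mul_assoc, h', zero_mul]
        have h8 : (sAdj n (s ^ k) - c • 1) * (c • s ^ k) = c • 1 - s ^ k := by
          rw [sub_mul, mul_smul_comm, hsk, smul_mul_smul_comm, one_mul, hcc, one_smul]
        rw [h8] at h7
        rw [show s ^ k - c • (1 : Matrix (Fin n ⊕ Fin n) (Fin n ⊕ Fin n) F) = -(c • 1 - s ^ k) from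
          (neg_sub _ _).symm, mul_neg, h7, neg_zero]
      have hes' : (s ^ k - c • 1) * e = e * (s ^ k - c • 1) :=
        (((hes.pow_right k).sub_right ((Commute.one_right e).smul_right c))).eq.symm
      rw [hes'] at h
      have := congrArg₂ (· + ·) h h6
      rw [← add_mul, add_sub_cancel, one_mul, add_zero, sub_eq_zero] at this
      exact this
    have hNall : N ^ m = 0 := by
      have h1 := congrArg (sAdj n) hNm
      rw [sAdj_mul, hPσ] at h1
      have hz : sAdj n (0 : Matrix (Fin n ⊕ Fin n) (Fin n ⊕ Fin n) F) = 0 := by simp [sAdj]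
      rw [hz] at h1
      have hone : sAdj n (1 : Matrix (Fin n ⊕ Fin n) (Fin n ⊕ Fin n) F) = 1 := by
        simpa using sAdj_smul (n := n) (1 : F)
      have hU : sAdj n (G ^ E) * G ^ E = 1 := by
        have := sAdj_mul_self (g ^ E)
        rwa [SubmonoidClass.coe_pow] at this
      have hpow : ∀ k, sAdj n (N ^ k) = sAdj n N ^ k := by
        intro k
        induction k with
        | zero => simp [hone]
        | succ k ih => rw [pow_succ, sAdj_mul, ih, ← pow_succ']
      have hσN : sAdj n N * G ^ E = -N := by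
        have h2 : sAdj n N + 1 = sAdj n (G ^ E) := by
          conv_rhs => rw [← sub_add_cancel (G ^ E) 1, sAdj_add, hone]
        rw [eq_sub_of_add_eq h2, sub_mul, hU, one_mul, hN, neg_sub]
      have hU2 : G ^ E * sAdj n (G ^ E) = 1 := mul_eq_one_comm.mp hU
      have hc1 : Commute (sAdj n N) (G ^ E) := by
        have h2 : sAdj n N + 1 = sAdj n (G ^ E) := by
          conv_rhs => rw [← sub_add_cancel (G ^ E) 1, sAdj_add, hone]
        rw [eq_sub_of_add_eq h2]
        exact (show Commute (sAdj n (G ^ E)) (G ^ E) from hU.trans hU2.symm).sub_left (Commute.one_left _)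
      rw [hpow] at h1
      have h3 : (1 - e) * N ^ m = 0 := by
        have h4 := congrArg (· * (G ^ E) ^ m) h1
        rw [zero_mul, mul_assoc, ← hc1.mul_pow, hσN, neg_pow, ((Commute.neg_one_left N).pow_pow m m).eq] at h4
        rcases neg_one_pow_eq_or (R := Matrix (Fin n ⊕ Fin n) (Fin n ⊕ Fin n) F) m with h5 | h5
        · rwa [h5, mul_one] at h4
        · rwa [h5, mul_neg, mul_one, mul_neg, neg_eq_zero] at h4
      rw [(heN.symm.pow_left m).eq] at hNm
      have := congrArg₂ (· + ·) hNm h3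
      rwa [← add_mul, add_sub_cancel, one_mul, add_zero] at this
    have hxE : AdjoinRoot.root f ≠ 0 :=
      CfsgLib.LinearOrders.root_ne_zero_of_dvd hEpos.ne' hfE
    haveI : Finite (AdjoinRoot f) := Nat.finite_of_card_ne_zero (by
      rw [CfsgLib.LinearOrders.card_adjoinRoot hfi.ne_zero]; exact pow_ne_zero _ Fintype.card_ne_zero)
    haveI : Fintype (AdjoinRoot f) := Fintype.ofFinite _
    have hxd : AdjoinRoot.root f ^ (q ^ d - 1) = 1 := by
      have := FiniteField.pow_card_sub_one_eq_one _ hxE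
      rwa [← Nat.card_eq_fintype_card, CfsgLib.LinearOrders.card_adjoinRoot hfi.ne_zero] at this
    rcases Nat.lt_or_ge m 2 with hm2 | hm2
    · right; left
      have hm1 : m = 1 := by
        interval_cases m
        · simp at hm; omega
        · rfl
      rw [hm1, mul_one] at hm
      rw [hm1, pow_one] at hNall
      obtain ⟨c, hcc, hc⟩ : ∃ c : F, c * c = 1 ∧
          AdjoinRoot.root f ^ ((q ^ n - 1) / 2) = algebraMap F _ c := by
        have h2 : (AdjoinRoot.root f ^ ((q ^ n - 1) / 2)) ^ 2 = 1 := by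
          rw [← pow_mul, Nat.div_mul_cancel (by
            have h3 : q ^ n % 2 = 1 := by rw [Nat.pow_mod, hqodd, one_pow] <;> norm_num
            omega), hm, hxd]
        rcases sq_eq_one_iff.mp h2 with h | h
        · exact ⟨1, one_mul 1, by rw [h, map_one]⟩
        · exact ⟨-1, by ring, by rw [h, map_neg, map_one]⟩
      simpa using hbound 0 _ c (hext _ c hcc (pow_sub_mul_eq_zero s e f hfe _ c hc)) (by simpa using hNall)
    · right; right
      refine ⟨d, Nat.clog p m, hfi.natDegree_pos, ?_, fun _ => ?_, Or.inr ?_⟩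
      · have hd1 : 1 ≤ d := hfi.natDegree_pos
        have hm' : n = d * m := hm
        have := Nat.mul_le_mul_left d hm2; omega
      · have h1 : p ^ (Nat.clog p m - 1) < m := Nat.pow_pred_clog_lt_self hp.one_lt (by omega : 1 < m)
        have hd1 : 1 ≤ d := hfi.natDegree_pos
        obtain ⟨m', rfl⟩ : ∃ m', m = m' + 2 := ⟨m - 2, by omega⟩
        have hm' : n = d * (m' + 2) := hm
        have : d * (m' + 2) = d + d * (m' + 1) := by ring
        have h3 : m' + 1 ≤ d * (m' + 1) := Nat.le_mul_of_pos_left _ hd1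
        omega
      · exact hbound _ _ 1 (hext _ 1 (one_mul 1) (pow_sub_mul_eq_zero s e f hfe _ 1 (by rw [hxd, map_one])))
          (by rw [← Nat.sub_add_cancel (Nat.le_pow_clog hp.one_lt m), pow_add, hNall, mul_zero])

end CfsgLib.SympOrders
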