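import Mathlib
import Cfsg.Agent.LinearOrders.Projective
import Cfsg.Agent.SympOrders.Basic

/-!
# Elements of prescribed order in `Sp (2n, q)` and `PSp (2n, q)`

Tori of orders `q ^ n ± 1`, regular unipotent elements, and block sums.
-/

set_option autoImplicit false

open Polynomial Matrix

namespace CfsgLib.SympOrders

variable {F : Type*} [Field F]

section Sum

/-- Index equivalence for the sum of two symplectic spaces. -/
def sumIdx (a b : ℕ) : (Fin a ⊕ Fin a) ⊕ (Fin b ⊕ Fin b) ≃ Fin (a + b) ⊕ Fin (a + b) :=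
  (Equiv.sumSumSumComm _ _ _ _).trans (Equiv.sumCongr finSumFinEquiv finSumFinEquiv)

theorem reindex_J (a b : ℕ) :
    Matrix.reindexAlgEquiv F F (sumIdx a b)
      (fromBlocks (Matrix.J (Fin a) F) 0 0 (Matrix.J (Fin b) F)) = Matrix.J (Fin (a + b)) F := by
  ext i j
  obtain ⟨i, rfl⟩ := (sumIdx a b).surjective i
  obtain ⟨j, rfl⟩ := (sumIdx a b).surjective j
  simp only [Matrix.reindexAlgEquiv_apply, Matrix.reindex_apply, Matrix.submatrix_apply,
    Equiv.symm_apply_apply]
  rcases i with (i | i) | (i | i) <;> rcases j with (j | j) | (j | j) <;>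
    simp [sumIdx, Matrix.J, Matrix.fromBlocks, Matrix.one_apply, Fin.ext_iff] <;> omega

/-- The matrix of the orthogonal sum of two symplectic matrices. -/
def spSumMat {a b : ℕ} (A : Matrix (Fin a ⊕ Fin a) (Fin a ⊕ Fin a) F)
    (B : Matrix (Fin b ⊕ Fin b) (Fin b ⊕ Fin b) F) :
    Matrix (Fin (a + b) ⊕ Fin (a + b)) (Fin (a + b) ⊕ Fin (a + b)) F :=
  Matrix.reindexAlgEquiv F F (sumIdx a b) (fromBlocks A 0 0 B)

theorem spSumMat_mem {a b : ℕ} (A : Matrix.symplecticGroup (Fin a) F)
    (B : Matrix.symplecticGroup (Fin b) F) :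
    spSumMat (A : Matrix (Fin a ⊕ Fin a) (Fin a ⊕ Fin a) F) B ∈ Matrix.symplecticGroup (Fin (a + b)) F := by
  rw [SymplecticGroup.mem_iff, spSumMat, ← reindex_J]
  have ht : ∀ M, (Matrix.reindexAlgEquiv F F (sumIdx a b) M)ᵀ =
      Matrix.reindexAlgEquiv F F (sumIdx a b) Mᵀ := fun M => rfl
  rw [ht, ← map_mul, ← map_mul]
  congr 1
  rw [fromBlocks_transpose, fromBlocks_multiply, fromBlocks_multiply]
  simp [SymplecticGroup.mem_iff.mp A.2, SymplecticGroup.mem_iff.mp B.2]

/-- Orthogonal sum of two symplectic matrices. -/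
def spSum (a b : ℕ) :
    Matrix.symplecticGroup (Fin a) F × Matrix.symplecticGroup (Fin b) F →*
      Matrix.symplecticGroup (Fin (a + b)) F where
  toFun x := ⟨_, spSumMat_mem x.1 x.2⟩
  map_one' := by
    apply Subtype.ext
    show spSumMat (1 : Matrix (Fin a ⊕ Fin a) (Fin a ⊕ Fin a) F) 1 = 1
    rw [spSumMat, fromBlocks_one, map_one]
  map_mul' x y := by
    apply Subtype.ext
    show spSumMat ((x.1 : Matrix (Fin a ⊕ Fin a) (Fin a ⊕ Fin a) F) * (y.1 : Matrix (Fin a ⊕ Fin a) (Fin a ⊕ Fin a) F))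
      ((x.2 : Matrix (Fin b ⊕ Fin b) (Fin b ⊕ Fin b) F) * (y.2 : Matrix (Fin b ⊕ Fin b) (Fin b ⊕ Fin b) F)) = spSumMat _ _ * spSumMat _ _
    simp only [spSumMat, ← map_mul, fromBlocks_multiply, Matrix.mul_zero, Matrix.zero_mul, add_zero,
      zero_add]

theorem spSum_scalar {a b : ℕ} (x : Matrix.symplecticGroup (Fin a) F)
    (y : Matrix.symplecticGroup (Fin b) F) (c : F)
    (h : ((spSum a b (x, y) : Matrix.symplecticGroup (Fin (a + b)) F) :
      Matrix (Fin (a + b) ⊕ Fin (a + b)) (Fin (a + b) ⊕ Fin (a + b)) F) = c • 1) :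
    (x : Matrix (Fin a ⊕ Fin a) (Fin a ⊕ Fin a) F) = c • 1 ∧
      (y : Matrix (Fin b ⊕ Fin b) (Fin b ⊕ Fin b) F) = c • 1 := by
  change spSumMat _ _ = c • 1 at h
  rw [spSumMat, ← map_one (Matrix.reindexAlgEquiv F F (sumIdx a b)), ← map_smul] at h
  have h' := (Matrix.reindexAlgEquiv F F (sumIdx a b)).injective h
  rw [← fromBlocks_one, fromBlocks_smul, fromBlocks_inj] at h'
  exact ⟨h'.1, h'.2.2.2⟩

end Sum

section Unipotent

variable {n : ℕ}

/-- The block upper triangular matrix of a regular unipotent symplectic element. -/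
theorem exists_regular_unipotent (hn : 1 ≤ n) :
    ∃ u : Matrix.symplecticGroup (Fin n) F,
      IsNilpotent ((u : Matrix (Fin n ⊕ Fin n) (Fin n ⊕ Fin n) F) - 1) ∧
      ∀ k, k < 2 * n → ((u : Matrix (Fin n ⊕ Fin n) (Fin n ⊕ Fin n) F) - 1) ^ k ≠ 0 := by
  classical
  let last : Fin n := ⟨n - 1, by omega⟩
  let N := CfsgLib.LinearOrders.shiftMat F n n
  have hNn : N ^ n = 0 := by
    ext i j
    rw [CfsgLib.LinearOrders.shiftMat_pow n n n hn, if_neg (by omega)]
    rfl
  have hUunit : IsUnit (1 + N) := IsNilpotent.isUnit_one_add ⟨n, hNn⟩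
  let U := (1 + N)
  let V := ((hUunit.unit⁻¹ : (Matrix (Fin n) (Fin n) F)ˣ) : Matrix (Fin n) (Fin n) F)
  have hUV : U * V = 1 := hUunit.mul_val_inv
  have hVU : V * U = 1 := hUunit.val_inv_mul
  let S : Matrix (Fin n) (Fin n) F := Matrix.single last last 1
  have hS : Sᵀ = S := transpose_single _ _ _
  let X : Matrix (Fin n ⊕ Fin n) (Fin n ⊕ Fin n) F := fromBlocks U (U * S) 0 Vᵀ
  have hX : X ∈ Matrix.symplecticGroup (Fin n) F := by
    have h1 : (V * U)ᵀ = 1 := by rw [hVU, transpose_one]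
    rw [transpose_mul] at h1
    have h2 : Vᵀ * Uᵀ = 1 := mul_eq_one_comm.mp h1
    rw [SymplecticGroup.mem_iff]
    simp only [X, Matrix.J, fromBlocks_transpose, fromBlocks_multiply, transpose_mul, transpose_zero,
      transpose_transpose, hS, Matrix.mul_zero, Matrix.zero_mul, Matrix.mul_one, Matrix.mul_neg,
      Matrix.neg_mul, add_zero, zero_add, neg_zero, mul_assoc, hUV, h2]
    simp
  refine ⟨⟨X, hX⟩, ?_, ?_⟩
  · -- nilpotent
    show IsNilpotent (X - 1)
    let W : Matrix (Fin n) (Fin n) F := Vᵀ - 1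
    have hW : IsNilpotent W := by
      have hV : V - 1 = -(V * N) := by
        have : V * (1 + N) = 1 := hVU
        rw [mul_add, mul_one] at this
        rw [eq_neg_iff_add_eq_zero, sub_add_eq_add_sub, this, sub_self]
      have hc : Commute V N := by
        have h3 : Commute (1 + N) N := (Commute.one_left N).add_left (Commute.refl N)
        exact (Commute.units_inv_left (u := hUunit.unit) h3)
      refine ⟨n, ?_⟩
      show (Vᵀ - 1) ^ n = 0
      rw [show (1 : Matrix (Fin n) (Fin n) F) = (1 : Matrix (Fin n) (Fin n) F)ᵀ from transpose_one.symm,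
        ← transpose_sub, ← transpose_pow, hV, neg_pow, hc.mul_pow, hNn, mul_zero,
        mul_zero, transpose_zero]
    obtain ⟨k, hk⟩ := hW
    have hX1 : X - 1 = fromBlocks N (U * S) 0 W := by
      have e1 : U - 1 = N := add_sub_cancel_left 1 N
      rw [← fromBlocks_one, sub_eq_add_neg, fromBlocks_neg, fromBlocks_add, ← sub_eq_add_neg, e1]
      simp [W, sub_eq_add_neg]
    have hpow : ∀ i, ∃ Y, fromBlocks N (U * S) 0 W ^ i = fromBlocks (N ^ i) Y 0 (W ^ i) := by
      intro i
      induction i with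
      | zero => exact ⟨0, by simp [fromBlocks_one]⟩
      | succ i ih =>
        obtain ⟨Y, hY⟩ := ih
        exact ⟨N ^ i * (U * S) + Y * W, by rw [pow_succ, hY, fromBlocks_multiply]; simp [pow_succ]⟩
    obtain ⟨Y, hY⟩ := hpow (n + k)
    refine ⟨(n + k) + (n + k), ?_⟩
    rw [hX1, pow_add, hY, pow_add N, hNn, pow_add W n k, hk]
    simp [fromBlocks_multiply]
  · -- the powers are non-zero
    intro k hk hzero
    change (X - 1) ^ k = 0 at hzero
    let e0 : Fin n ⊕ Fin n → F := Pi.single (Sum.inl ⟨0, hn⟩) 1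
    have hX1 : X - 1 = fromBlocks N (U * S) 0 (Vᵀ - 1) := by
      have e1 : U - 1 = N := add_sub_cancel_left 1 N
      rw [← fromBlocks_one, sub_eq_add_neg, fromBlocks_neg, fromBlocks_add, ← sub_eq_add_neg, e1]
      simp [sub_eq_add_neg]
    have hrowN : ∀ i : Fin n, ∀ h : i.val + 1 < n,
        Pi.single i (1 : F) ᵥ* N = Pi.single ⟨i.val + 1, h⟩ 1 := by
      intro i h
      ext j
      simp only [single_one_vecMul, N, CfsgLib.LinearOrders.shiftMat, of_apply, Pi.single_apply,
        Fin.ext_iff, Matrix.row_apply]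
      split_ifs <;> first | rfl | omega
    have hlastN : Pi.single last (1 : F) ᵥ* N = 0 := by
      ext j
      simp only [single_one_vecMul, N, CfsgLib.LinearOrders.shiftMat, of_apply, Pi.zero_apply,
        Matrix.row_apply]
      rw [if_neg]
      simp only [last]; omega
    have hUS : ∀ i : Fin n, Pi.single i (1 : F) ᵥ* (U * S) =
        if i.val + 1 = n - 1 ∨ i = last then Pi.single last 1 else 0 := by
      intro i
      rw [← vecMul_vecMul, show U = 1 + N from rfl, vecMul_add, vecMul_one, add_vecMul]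
      have hS1 : ∀ l : Fin n, Pi.single l (1 : F) ᵥ* S = if l = last then Pi.single last 1 else 0 := by
        intro l
        ext j
        simp only [single_one_vecMul, S, Matrix.single_apply, Matrix.row_apply]
        by_cases hl : l = last
        · subst hl
          by_cases hj : j = last
          · subst hj; simp
          · simp [Pi.single_apply, hj, Ne.symm hj]
        · simp [hl, Ne.symm hl]
      by_cases hi : i.val + 1 < n
      · rw [hrowN i hi, hS1, hS1, if_neg (show i ≠ last by simp [last, Fin.ext_iff]; omega), zero_add]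
        refine if_congr ?_ rfl rfl
        simp only [last, Fin.ext_iff]
        omega
      · have : i = last := Fin.ext (by simp only [last]; omega)
        subst this
        rw [hlastN, zero_vecMul, add_zero, hS1, if_pos rfl, if_pos (Or.inr rfl)]
    -- the first `n` steps
    have hfirst : ∀ i, ∀ h : i < n, ∃ v : Fin n → F, (v = 0 ∨ v = Pi.single last 1) ∧
        (i + 1 < n → v = 0) ∧ e0 ᵥ* ((X - 1) ^ i) = Sum.elim (Pi.single ⟨i, h⟩ 1) v := by
      intro i
      induction i with
      | zero =>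
        intro h
        refine ⟨0, Or.inl rfl, fun _ => rfl, ?_⟩
        rw [pow_zero, vecMul_one]
        ext (j | j) <;> simp [e0, Pi.single_apply]
      | succ i ih =>
        intro h
        obtain ⟨v, -, hv, heq⟩ := ih (by omega)
        refine ⟨Pi.single ⟨i, by omega⟩ (1 : F) ᵥ* (U * S), ?_, ?_, ?_⟩
        · rw [hUS]
          split_ifs
          · exact Or.inr rfl
          · exact Or.inl rfl
        · intro h'
          rw [hUS, if_neg]
          simp only [last, Fin.ext_iff]
          omega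
        · rw [pow_succ, ← vecMul_vecMul, heq, hv (by omega), hX1, vecMul_fromBlocks]
          simp only [Sum.elim_comp_inl, Sum.elim_comp_inr, zero_vecMul, add_zero, vecMul_zero]
          rw [hrowN ⟨i, by omega⟩ (by simpa using h)]
    by_cases hkn : k < n
    · obtain ⟨v, -, -, heq⟩ := hfirst k hkn
      rw [hzero, vecMul_zero] at heq
      simpa using congrFun heq (Sum.inl ⟨k, hkn⟩)
    · obtain ⟨v, hv, -, heq⟩ := hfirst (n - 1) (by omega)
      let W : Matrix (Fin n) (Fin n) F := Vᵀ - 1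
      obtain ⟨P, hP, hPW, hw⟩ : ∃ P : Matrix (Fin n) (Fin n) F, IsUnit P ∧ Commute P W ∧
          Pi.single last (1 : F) + v ᵥ* W = Pi.single last 1 ᵥ* P := by
        rcases hv with rfl | rfl
        · exact ⟨1, isUnit_one, Commute.one_left _, by rw [zero_vecMul, add_zero, vecMul_one]⟩
        · refine ⟨Vᵀ, ?_, (Commute.refl _).sub_right (Commute.one_right _), ?_⟩
          · exact IsUnit.of_mul_eq_one Uᵀ (by rw [← transpose_mul, hUV, transpose_one])
          · rw [show Vᵀ = 1 + W from (add_sub_cancel 1 Vᵀ).symm, vecMul_add, vecMul_one]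
      have hstep : ∀ j, e0 ᵥ* ((X - 1) ^ (n - 1 + 1 + j)) =
          Sum.elim (0 : Fin n → F) (Pi.single last 1 ᵥ* (P * W ^ j)) := by
        intro j
        induction j with
        | zero =>
          rw [add_zero, pow_succ, ← vecMul_vecMul, heq, hX1, vecMul_fromBlocks, pow_zero, mul_one, ← hw]
          simp only [Sum.elim_comp_inl, Sum.elim_comp_inr, vecMul_zero, add_zero]
          rw [show (⟨n - 1, _⟩ : Fin n) = last from rfl, hlastN, hUS, if_pos (Or.inr rfl)]
        | succ j ih =>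
          rw [← add_assoc, pow_succ, ← vecMul_vecMul, ih, hX1, vecMul_fromBlocks]
          simp only [Sum.elim_comp_inl, Sum.elim_comp_inr, vecMul_zero, zero_vecMul, add_zero, zero_add]
          rw [vecMul_vecMul, mul_assoc, ← pow_succ]
      have h0 := hstep (k - n)
      rw [show n - 1 + 1 + (k - n) = k by omega, hzero, vecMul_zero] at h0
      have h1 : Pi.single last (1 : F) ᵥ* (P * W ^ (k - n)) = 0 := by
        funext i; exact (congrFun h0 (Sum.inr i)).symm
      set j := k - n with hj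
      have h2 : Pi.single last (1 : F) ᵥ* W ^ j = 0 := by
        have h3 := congrArg (· ᵥ* ((hP.unit⁻¹ : (Matrix (Fin n) (Fin n) F)ˣ) : Matrix (Fin n) (Fin n) F)) h1
        simp only [vecMul_vecMul, zero_vecMul, (hPW.pow_right j).eq, mul_assoc, IsUnit.mul_val_inv,
          mul_one] at h3
        exact h3
      have hWj : W ^ j = ((V - 1) ^ j)ᵀ := by
        rw [transpose_pow, transpose_sub, transpose_one]
      rw [hWj, vecMul_transpose] at h2
      have hV : V - 1 = -(V * N) := by
        have : V * (1 + N) = 1 := hVU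
        rw [mul_add, mul_one] at this
        rw [eq_neg_iff_add_eq_zero, sub_add_eq_add_sub, this, sub_self]
      have hc : Commute V N := by
        have h3 : Commute (1 + N) N := (Commute.one_left N).add_left (Commute.refl N)
        exact (Commute.units_inv_left (u := hUunit.unit) h3)
      have h4 : U ^ j * (V - 1) ^ j = (-1) ^ j * N ^ j := by
        rw [hV, neg_pow, hc.mul_pow, ← mul_assoc, ((Commute.neg_one_right U).pow_pow j j).eq, mul_assoc,
          ← mul_assoc (U ^ j), ← (show Commute U V from hUV.trans hVU.symm).mul_pow, hUV, one_pow, one_mul]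
      have h5 := congrArg (U ^ j *ᵥ ·) h2
      simp only [mulVec_mulVec, mulVec_zero, h4] at h5
      have h6 : N ^ j *ᵥ Pi.single last (1 : F) = 0 := by
        rcases neg_one_pow_eq_or (R := Matrix (Fin n) (Fin n) F) j with h | h
        · rwa [h, one_mul] at h5
        · rwa [h, neg_one_mul, neg_mulVec, neg_eq_zero] at h5
      have h7 := congrFun h6 ⟨n - 1 - j, by omega⟩
      rcases Nat.eq_zero_or_pos j with hj0 | hj0
      · simp [hj0, last] at h7
      · simp only [N, mulVec_single_one, Matrix.col_apply, Pi.zero_apply,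
          CfsgLib.LinearOrders.shiftMat_pow n n j hj0] at h7
        rw [if_pos (by simp only [last]; omega)] at h7
        exact one_ne_zero h7

end Unipotent

section Torus

variable [Fintype F]

/-- An element of `Sp (2j, q)` of order `q ^ j - 1`. -/
theorem exists_torus_minus {j : ℕ} (hj : 1 ≤ j) {p : ℕ} [Fact p.Prime] [CharP F p] :
    ∃ z : Matrix.symplecticGroup (Fin j) F, orderOf z = Fintype.card F ^ j - 1 := by
  classical
  haveI : NeZero j := ⟨by omega⟩
  let K := FiniteField.Extension F p j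
  haveI : Finite K := Module.finite_of_finite F
  let b : Module.Basis (Fin j) F K :=
    Module.finBasisOfFinrankEq F K (FiniteField.finrank_extension F p j)
  obtain ⟨y, hy⟩ := IsCyclic.exists_ofOrder_eq_natCard (α := Kˣ)
  rw [Nat.card_units, FiniteField.natCard_extension, Nat.card_eq_fintype_card] at hy
  let f : Kˣ →* Matrix.symplecticGroup (Fin j) F :=
    { toFun := fun u => ⟨fromBlocks (Algebra.leftMulMatrix b (u : K)) 0 0
        ((Algebra.leftMulMatrix b ((u⁻¹ : Kˣ) : K))ᵀ), by
          have h1 : Algebra.leftMulMatrix b (u : K) * Algebra.leftMulMatrix b ((u⁻¹ : Kˣ) : K) = 1 := by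
            rw [← map_mul, Units.mul_inv, map_one]
          have h2 : (Algebra.leftMulMatrix b ((u⁻¹ : Kˣ) : K))ᵀ * (Algebra.leftMulMatrix b (u : K))ᵀ = 1 := by
            rw [← transpose_mul, h1, transpose_one]
          rw [SymplecticGroup.mem_iff]
          simp [Matrix.J, fromBlocks_transpose, fromBlocks_multiply, h1, h2, transpose_transpose,
            -map_units_inv, -Units.val_inv_eq_inv_val]⟩
      map_one' := Subtype.ext (by simp [fromBlocks_one])
      map_mul' := fun u v => Subtype.ext (by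
        show fromBlocks (Algebra.leftMulMatrix b ((u * v : Kˣ) : K)) 0 0
            ((Algebra.leftMulMatrix b (((u * v)⁻¹ : Kˣ) : K))ᵀ) = fromBlocks _ 0 0 _ * fromBlocks _ 0 0 _
        simp only [fromBlocks_multiply, Matrix.mul_zero, Matrix.zero_mul, add_zero, zero_add,
          Units.val_mul, _root_.mul_inv_rev, map_mul, transpose_mul]) }
  have hf : Function.Injective f := by
    intro u v h
    have := congrArg (fun g : Matrix.symplecticGroup (Fin j) F =>
      Matrix.toBlocks₁₁ (g : Matrix (Fin j ⊕ Fin j) (Fin j ⊕ Fin j) F)) h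
    exact Units.ext (Algebra.leftMulMatrix_injective b this)
  exact ⟨f y, by rw [orderOf_injective f hf, hy]⟩

/-- Restriction of scalars `SL (2, K) → Sp (2j, F)`. -/
theorem exists_hom_SL_two {K : Type*} [Field K] [Algebra F K] [FiniteDimensional F K] {j : ℕ}
    (b : Module.Basis (Fin j) F K) :
    ∃ f : Matrix.SpecialLinearGroup (Fin 2) K →* Matrix.symplecticGroup (Fin j) F, Function.Injective f := by
  classical
  haveI : Finite K := Module.finite_of_finite F
  set L := Algebra.leftMulMatrix b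
  let G : Matrix (Fin j) (Fin j) F := Algebra.traceMatrix F b
  have hG : IsUnit G.det := by
    have := Algebra.discr_isUnit_of_basis F b
    rwa [Algebra.discr_def] at this
  have hGG : G * G⁻¹ = 1 := Matrix.mul_nonsing_inv G hG
  have hGG' : G⁻¹ * G = 1 := Matrix.nonsing_inv_mul G hG
  have hGt : Gᵀ = G := by
    ext i k
    simp only [G, transpose_apply, Algebra.traceMatrix_apply, Algebra.traceForm_apply, mul_comm]
  have hGit : (G⁻¹)ᵀ = G⁻¹ := by rw [transpose_nonsing_inv, hGt]
  have hadj : ∀ a : K, (L a)ᵀ * G = G * L a := by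
    intro a
    ext i k
    simp only [G, L, Matrix.mul_apply, transpose_apply, Algebra.leftMulMatrix_eq_repr_mul,
      Algebra.traceMatrix_apply, Algebra.traceForm_apply]
    have h1 : ∀ (i k : Fin j), ∑ l, b.repr (a * b i) l * Algebra.trace F K (b l * b k) =
        Algebra.trace F K (a * b i * b k) := by
      intro i k
      conv_rhs => rw [← b.sum_repr (a * b i), Finset.sum_mul, map_sum]
      refine Finset.sum_congr rfl fun l _ => ?_
      rw [smul_mul_assoc, map_smul, smul_eq_mul]
    rw [h1]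
    calc Algebra.trace F K (a * b i * b k) = Algebra.trace F K (a * b k * b i) := by
          rw [mul_right_comm]
      _ = ∑ l, b.repr (a * b k) l * Algebra.trace F K (b l * b i) := (h1 k i).symm
      _ = _ := Finset.sum_congr rfl fun l _ => by rw [mul_comm, mul_comm (b l)]
  let Φ : Matrix (Fin 2) (Fin 2) K → Matrix (Fin j ⊕ Fin j) (Fin j ⊕ Fin j) F := fun M =>
    fromBlocks (L (M 0 0)) (L (M 0 1) * G⁻¹) (G * L (M 1 0)) (G * L (M 1 1) * G⁻¹)
  have hΦmul : ∀ M N, Φ (M * N) = Φ M * Φ N := by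
    intro M N
    simp only [Φ, fromBlocks_multiply, Matrix.mul_apply, Fin.sum_univ_two, map_add, map_mul]
    have e1 : ∀ X Y : Matrix (Fin j) (Fin j) F, X * G⁻¹ * (G * Y) = X * Y := fun X Y => by
      rw [mul_assoc, ← mul_assoc G⁻¹, hGG', one_mul]
    congr 1 <;> simp only [add_mul, mul_add, e1, mul_assoc]
    all_goals simp only [← mul_assoc (G⁻¹) G, hGG', one_mul]
  have hΦ1 : Φ 1 = 1 := by
    simp [Φ, hGG, fromBlocks_one]
  have hLc : ∀ x y : K, L x * L y = L y * L x := fun x y => by rw [← map_mul, ← map_mul, mul_comm]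
  have hmem : ∀ M : Matrix.SpecialLinearGroup (Fin 2) K,
      Φ (M : Matrix (Fin 2) (Fin 2) K) ∈ Matrix.symplecticGroup (Fin j) F := by
    intro M
    have hdet := M.2
    rw [Matrix.det_fin_two] at hdet
    have hL1 : L (M.1 0 0) * L (M.1 1 1) - L (M.1 0 1) * L (M.1 1 0) = 1 := by
      rw [← map_mul, ← map_mul, ← map_sub, hdet, map_one]
    have hT : ∀ x : K, G⁻¹ * (L x)ᵀ = L x * G⁻¹ := by
      intro x
      calc G⁻¹ * (L x)ᵀ = G⁻¹ * ((L x)ᵀ * G) * G⁻¹ := by rw [mul_assoc, mul_assoc, hGG, mul_one]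
        _ = L x * G⁻¹ := by rw [hadj, ← mul_assoc, hGG', one_mul]
    rw [SymplecticGroup.mem_iff]
    simp only [Φ, Matrix.J, fromBlocks_transpose, fromBlocks_multiply, transpose_mul, hGt, hGit,
      Matrix.mul_zero, Matrix.zero_mul, Matrix.mul_one, Matrix.mul_neg, Matrix.neg_mul, add_zero,
      zero_add]
    have k1 : ∀ x y : K, L x * G⁻¹ * (L y)ᵀ = L (x * y) * G⁻¹ := fun x y => by
      rw [mul_assoc, hT, ← mul_assoc, ← map_mul]
    congr 1
    · show L (M.1 0 1) * G⁻¹ * (L (M.1 0 0))ᵀ + -(L (M.1 0 0) * (G⁻¹ * (L (M.1 0 1))ᵀ)) = 0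
      rw [← mul_assoc, k1, k1, mul_comm (M.1 0 1), add_neg_cancel]
    · show L (M.1 0 1) * G⁻¹ * ((L (M.1 1 0))ᵀ * G) + -(L (M.1 0 0) * (G⁻¹ * ((L (M.1 1 1))ᵀ * G))) = -1
      rw [hadj, hadj, ← mul_assoc (G⁻¹), hGG', one_mul, mul_assoc (L _) (G⁻¹), ← mul_assoc (G⁻¹),
        hGG', one_mul, ← sub_eq_add_neg, ← neg_sub, hL1]
    · show G * L (M.1 1 1) * G⁻¹ * (L (M.1 0 0))ᵀ + -(G * L (M.1 1 0) * (G⁻¹ * (L (M.1 0 1))ᵀ)) = 1
      rw [← mul_assoc (G * L (M.1 1 0)), mul_assoc G (L (M.1 1 1)), mul_assoc G, k1,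
        mul_assoc G (L (M.1 1 0)), mul_assoc G, k1, ← sub_eq_add_neg, ← mul_sub, ← sub_mul,
        map_mul, map_mul, hLc (M.1 1 1), hLc (M.1 1 0), hL1, one_mul, hGG]
    · show G * L (M.1 1 1) * G⁻¹ * ((L (M.1 1 0))ᵀ * G) + -(G * L (M.1 1 0) * (G⁻¹ * ((L (M.1 1 1))ᵀ * G))) = 0
      rw [hadj, hadj, ← mul_assoc (G⁻¹), hGG', one_mul, mul_assoc (G * L (M.1 1 1)),
        ← mul_assoc (G⁻¹), hGG', one_mul, mul_assoc, mul_assoc, hLc, add_neg_cancel]
  refine ⟨{ toFun := fun M => ⟨_, hmem M⟩, map_one' := Subtype.ext hΦ1,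
            map_mul' := fun M N => Subtype.ext (hΦmul M.1 N.1) }, ?_⟩
  intro M N h
  have h' : Φ M.1 = Φ N.1 := congrArg Subtype.val h
  simp only [Φ, fromBlocks_inj] at h'
  obtain ⟨h00, h01, h10, h11⟩ := h'
  have hinj := Algebra.leftMulMatrix_injective b
  have hGu : IsUnit G := (Matrix.isUnit_iff_isUnit_det G).mpr hG
  have hGiu : IsUnit G⁻¹ := IsUnit.of_mul_eq_one G hGG'
  apply Subtype.ext
  ext i k
  fin_cases i <;> fin_cases k
  · exact hinj h00
  · exact hinj (hGiu.mul_right_cancel h01)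
  · exact hinj (hGu.mul_left_cancel h10)
  · exact hinj (hGu.mul_left_cancel (hGiu.mul_right_cancel h11))

/-- An element of `Sp (2j, q)` of order `q ^ j + 1`. -/
theorem exists_torus_plus {j : ℕ} (hj : 1 ≤ j) {p : ℕ} [Fact p.Prime] [CharP F p] :
    ∃ z : Matrix.symplecticGroup (Fin j) F, orderOf z = Fintype.card F ^ j + 1 := by
  classical
  haveI : NeZero j := ⟨by omega⟩
  let K := FiniteField.Extension F p j
  haveI : Finite K := Module.finite_of_finite F
  haveI : Fintype K := Fintype.ofFinite K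
  haveI : CharP K p := charP_of_injective_algebraMap (algebraMap F K).injective p
  let L := FiniteField.Extension K p 2
  haveI : Finite L := Module.finite_of_finite K
  obtain ⟨f, hf⟩ := exists_hom_SL_two
    (Module.finBasisOfFinrankEq F K (FiniteField.finrank_extension F p j))
  let b : Module.Basis (Fin 2) K L := Module.finBasisOfFinrankEq K L (FiniteField.finrank_extension K p 2)
  set Q := Fintype.card F ^ j with hQ
  have hcK : Nat.card K = Q := by rw [FiniteField.natCard_extension, Nat.card_eq_fintype_card]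
  have hQ1 : 1 < Q := Nat.one_lt_pow (by omega) Fintype.one_lt_card
  obtain ⟨y, hy⟩ := IsCyclic.exists_ofOrder_eq_natCard (α := Lˣ)
  rw [Nat.card_units, FiniteField.natCard_extension, hcK] at hy
  have hfac : Q ^ 2 - 1 = (Q + 1) * (Q - 1) := by rw [← Nat.sq_sub_sq, one_pow]
  set z := y ^ (Q - 1) with hz
  have hzord : orderOf z = Q + 1 := by
    rw [hz, orderOf_pow' _ (by omega), hy, hfac, Nat.gcd_mul_left_left, Nat.mul_div_cancel _ (by omega)]
  have hdet : (Algebra.leftMulMatrix b (z : L)).det = 1 := by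
    rw [← Algebra.norm_eq_matrix_det b, hz, Units.val_pow_eq_pow_val, map_pow, ← hcK,
      Nat.card_eq_fintype_card]
    exact FiniteField.pow_card_sub_one_eq_one _ ((Algebra.norm_ne_zero_iff).mpr y.ne_zero)
  let M : Matrix.SpecialLinearGroup (Fin 2) K := ⟨_, hdet⟩
  refine ⟨f M, ?_⟩
  rw [orderOf_injective f hf, ← hzord, orderOf_eq_orderOf_iff]
  intro k
  constructor
  · intro h
    have := congrArg Subtype.val h
    rw [Matrix.SpecialLinearGroup.coe_pow] at this
    have h1 : Algebra.leftMulMatrix b ((z ^ k : Lˣ) : L) = Algebra.leftMulMatrix b 1 := by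
      rw [Units.val_pow_eq_pow_val, map_pow, map_one]; exact this
    exact Units.ext (Algebra.leftMulMatrix_injective b h1)
  · intro h
    apply Subtype.ext
    rw [Matrix.SpecialLinearGroup.coe_pow]
    show Algebra.leftMulMatrix b (z : L) ^ k = 1
    rw [← map_pow, ← Units.val_pow_eq_pow_val, h, Units.val_one, map_one]

end Torus

section Projective

variable [Fintype F]

/-- The order in `PSp` of a torus element. -/
theorem half_dvd_orderOf {n N : ℕ} (hn : 1 ≤ n) (z : Matrix.symplecticGroup (Fin n) F) (hz : orderOf z = N)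
    (hN : Even N) : N / 2 ∣ orderOf (QuotientGroup.mk z : Cfsg.PSp n F) := by
  set o := orderOf (QuotientGroup.mk z : Cfsg.PSp n F)
  obtain ⟨c, hc⟩ := (mk_pow_eq_one_iff z o).mp (pow_orderOf_eq_one _)
  have hc' : (((z ^ o : Matrix.symplecticGroup (Fin n) F)) : Matrix (Fin n ⊕ Fin n) (Fin n ⊕ Fin n) F) = c • 1 := by
    rw [SubmonoidClass.coe_pow]; exact hc
  have hcc := scalar_sq hn hc'
  have h2 : z ^ (o * 2) = 1 := by
    apply Subtype.ext
    rw [pow_mul, SubmonoidClass.coe_pow, hc', _root_.smul_pow, sq, hcc, one_pow, one_smul]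
    rfl
  have h3 : N ∣ o * 2 := hz ▸ orderOf_dvd_of_pow_eq_one h2
  obtain ⟨M, rfl⟩ := hN
  rw [show (M + M) / 2 = M by omega]
  exact Nat.dvd_of_mul_dvd_mul_left two_pos (by rwa [two_mul, mul_comm 2 o])

/-- A torus element summed with a regular unipotent one. -/
theorem exists_block {j l N t : ℕ} {p : ℕ} [Fact p.Prime] [CharP F p] (hj : 1 ≤ j) (hl : 1 ≤ l)
    (z : Matrix.symplecticGroup (Fin j) F) (hz : orderOf z = N) (ht : 1 ≤ t → p ^ (t - 1) < 2 * l) :
    ∃ x : Cfsg.PSp (j + l) F, N ∣ orderOf x ∧ p ^ t ∣ orderOf x := by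
  classical
  haveI : Nonempty (Fin l) := ⟨⟨0, hl⟩⟩
  have hp : p.Prime := Fact.out
  obtain ⟨u, ⟨r, hr⟩, hu⟩ := exists_regular_unipotent (F := F) hl
  set U := (u : Matrix (Fin l ⊕ Fin l) (Fin l ⊕ Fin l) F) with hU
  refine ⟨QuotientGroup.mk (spSum j l (z, u)), ?_⟩
  set o := orderOf (QuotientGroup.mk (spSum j l (z, u)) : Cfsg.PSp (j + l) F)
  obtain ⟨c, hc⟩ := (mk_pow_eq_one_iff (spSum j l (z, u)) o).mp (pow_orderOf_eq_one _)
  rw [← SubmonoidClass.coe_pow, ← map_pow] at hc
  obtain ⟨hzc, huc⟩ := spSum_scalar (z ^ o) (u ^ o) c hc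
  rw [SubmonoidClass.coe_pow, ← hU] at huc
  rw [SubmonoidClass.coe_pow] at hzc
  have hbig : U ^ p ^ r = 1 := by
    have hle : r ≤ p ^ r := (Nat.lt_pow_self hp.one_lt).le
    have : (U - 1) ^ p ^ r = 0 := by rw [← Nat.sub_add_cancel hle, pow_add, hr, mul_zero]
    rwa [sub_pow_char_pow_of_commute (p := p) (h := Commute.one_right _), one_pow, sub_eq_zero] at this
  have hc1 : c = 1 := by
    have h1 : (c ^ p ^ r) • (1 : Matrix (Fin l ⊕ Fin l) (Fin l ⊕ Fin l) F) = 1 := by
      have h2 := congrArg (· ^ p ^ r) huc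
      rw [← pow_mul, mul_comm, pow_mul, hbig, one_pow, _root_.smul_pow, one_pow] at h2
      exact h2.symm
    have h3 : c ^ p ^ r = 1 := by
      simpa using congrFun (congrFun h1 (Sum.inl ⟨0, hl⟩)) (Sum.inl ⟨0, hl⟩)
    have h4 : (c - 1) ^ p ^ r = 0 := by rw [sub_pow_char_pow, h3, one_pow, sub_self]
    exact sub_eq_zero.mp (pow_eq_zero_iff (pow_ne_zero _ hp.ne_zero) |>.mp h4)
  rw [hc1, one_smul] at hzc huc
  refine ⟨hz ▸ orderOf_dvd_of_pow_eq_one (Subtype.ext (by rw [SubmonoidClass.coe_pow]; exact hzc)), ?_⟩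
  have hdvd : orderOf U ∣ o := orderOf_dvd_of_pow_eq_one huc
  refine Dvd.dvd.trans ?_ hdvd
  obtain ⟨i, -, hi⟩ := (Nat.dvd_prime_pow hp).mp (orderOf_dvd_of_pow_eq_one hbig)
  rw [hi]
  refine pow_dvd_pow _ ?_
  by_contra hlt
  have h5 : U ^ p ^ (t - 1) = 1 := orderOf_dvd_iff_pow_eq_one.mp (hi ▸ pow_dvd_pow _ (by omega))
  apply hu _ (ht (by omega))
  rw [sub_pow_char_pow_of_commute (p := p) (h := Commute.one_right _), h5, one_pow, sub_self]

end Projective

end CfsgLib.SympOrders
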